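import Cfsg.Prelude.Def_Blocks
import Mathlib.GroupTheory.Sylow

/-!
# S4933, the interface (helper316)

* `vd p χ`    : the exponent of `p` in the degree of `χ`;
* `CD p a P`  : the character degrees of `P` are `1` and `p ^ a`;
* `Good p a M G` : the conclusion of S4933 (heights in the principal block are the `vd`);
* `Row p S`   : **the row**: for every almost simple `A` with socle `N ≃* S` and Sylow `p`-subgroup `P` with
  `CD p a P`, the principal block of `A` contains `χ` with `N` not in the kernel and `1 ≤ vd p χ ≤ a`;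
* `RowIn p S` : the same for `A = S` (enough when `p ∤ |A : N|`);
* `RowOut p S`: the case `P ≰ N`.
-/

set_option autoImplicit false

open Subgroup

namespace Cfsg.Agent.H316.HT

open Cfsg

universe u v

/-- the exponent of `p` in the degree -/
noncomputable def vd (p : ℕ) {G : Type u} [Group G] (χ : G → ℂ) : ℕ := (charDegree χ).factorization p

/-- the set of degrees of `P` is `{1, p ^ a}` -/
def CD (p a : ℕ) (P : Type u) [Group P] : Prop :=
  (∀ φ : IrrCharacter P, charDegree (φ : P → ℂ) = 1 ∨ charDegree (φ : P → ℂ) = p ^ a) ∧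
    ∃ φ : IrrCharacter P, charDegree (φ : P → ℂ) = p ^ a

/-- a character of the principal block of `p`-part between `p` and `p ^ a` -/
def Good (p a : ℕ) (M : Ideal AlgInt) (G : Type u) [Group G] : Prop :=
  ∃ χ : IrrCharacter G, χ ∈ principalBlock M G ∧ 0 < vd p (χ : G → ℂ) ∧ vd p (χ : G → ℂ) ≤ a

/-- the claim for one almost simple group -/
def GoodOn (p a : ℕ) (M : Ideal AlgInt) {A : Type u} [Group A] (N : Subgroup A) : Prop :=
  ∃ χ : IrrCharacter A, χ ∈ principalBlock M A ∧ (∃ n ∈ N, (χ : A → ℂ) n ≠ (χ : A → ℂ) 1) ∧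
    0 < vd p (χ : A → ℂ) ∧ vd p (χ : A → ℂ) ≤ a

/-- **the row of S4933** -/
def Row (p : ℕ) (S : Type v) [Group S] : Prop :=
  ∀ (A : Type) [Group A] [Finite A] (N : Subgroup A) [N.Normal], Nonempty (N ≃* S) →
    centralizer (N : Set A) = ⊥ → ∀ M : Ideal AlgInt, IsPModular p M → ∀ (P : Sylow p A) (a : ℕ), 0 < a →
      CD p a (P : Subgroup A) → GoodOn p a M N

/-- the simple group itself -/
def RowIn (p : ℕ) (S : Type v) [Group S] : Prop :=
  ∀ M : Ideal AlgInt, IsPModular p M → ∀ (P : Sylow p S) (a : ℕ), 0 < a → CD p a (P : Subgroup S) → Good p a M S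

/-- the almost simple groups with outer `p`-automorphisms -/
def RowOut (p : ℕ) (S : Type v) [Group S] : Prop :=
  ∀ (A : Type) [Group A] [Finite A] (N : Subgroup A) [N.Normal], Nonempty (N ≃* S) →
    centralizer (N : Set A) = ⊥ → ∀ M : Ideal AlgInt, IsPModular p M → ∀ (P : Sylow p A) (a : ℕ), 0 < a →
      CD p a (P : Subgroup A) → ¬ (P : Subgroup A) ≤ N → GoodOn p a M N

/-- all rows -/
def AllRows (p : ℕ) : Prop :=
  ∀ (S : Type) [Group S] [Finite S] [IsSimpleGroup S], ¬ IsMulCommutative S → p ∣ Nat.card S → Row p S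

end Cfsg.Agent.H316.HT
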